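import Mathlib
import Groth.Agent.EtaleCommLib.Basic

/-!
# Characters of the general linear group over a connected base
-/

set_option autoImplicit false
universe u

open Matrix

noncomputable section

namespace Groth.Agent.GLCharLib

variable {R : Type u} [CommRing R]

abbrev GLn (k : ℕ) (B : Type u) [CommRing B] := Matrix.GeneralLinearGroup (Fin k) B

/-- A transvection as an invertible matrix. -/
def tv {k : ℕ} {B : Type u} [CommRing B] (a b : Fin k) (h : a ≠ b) (t : B) : GLn k B :=
  ⟨transvection a b t, transvection a b (-t),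
    by rw [transvection_mul_transvection_same a b h, add_neg_cancel, transvection_zero],
    by rw [transvection_mul_transvection_same a b h, neg_add_cancel, transvection_zero]⟩

/-- The diagonal matrix with one non-trivial entry. -/
def dg {k : ℕ} {B : Type u} [CommRing B] (a : Fin k) : Bˣ →* GLn k B where
  toFun c := ⟨diagonal (Pi.mulSingle a (c : B)), diagonal (Pi.mulSingle a ((c⁻¹ : Bˣ) : B)),
    by rw [diagonal_mul_diagonal]; exact (congrArg diagonal (funext fun i => by rcases eq_or_ne i a with rfl | h <;> simp [*])).trans diagonal_one,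
    by rw [diagonal_mul_diagonal]; exact (congrArg diagonal (funext fun i => by rcases eq_or_ne i a with rfl | h <;> simp [*])).trans diagonal_one⟩
  map_one' := Units.ext (by simp)
  map_mul' c d := Units.ext (by
    show diagonal (Pi.mulSingle a ((c * d : Bˣ) : B)) = diagonal (Pi.mulSingle a (c : B)) * diagonal (Pi.mulSingle a (d : B))
    rw [diagonal_mul_diagonal]
    exact congrArg diagonal (funext fun i => by rcases eq_or_ne i a with rfl | h <;> simp [*]))

theorem det_dg {k : ℕ} {B : Type u} [CommRing B] (a : Fin k) (c : Bˣ) :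
    Matrix.GeneralLinearGroup.det (dg a c) = c := by
  refine Units.ext ?_
  show (diagonal (Pi.mulSingle a (c : B))).det = c
  rw [det_diagonal, Finset.prod_eq_single a (fun j _ hj => Pi.mulSingle_eq_of_ne hj _) (fun h => absurd (Finset.mem_univ a) h),
    Pi.mulSingle_eq_same]

theorem idempotent_trivial [ConnectedSpace (PrimeSpectrum R)] {e : R} (he : IsIdempotentElem e) : e = 0 ∨ e = 1 := by
  have hc : IsClopen (PrimeSpectrum.basicOpen e : Set (PrimeSpectrum R)) := PrimeSpectrum.isClopen_iff.mpr ⟨e, he, rfl⟩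
  rcases isClopen_iff.mp hc with h | h
  · left
    have hn : IsNilpotent e := by
      rw [← PrimeSpectrum.basicOpen_eq_bot_iff]
      exact TopologicalSpace.Opens.ext h
    exact he.eq_zero_of_isNilpotent hn
  · right
    have hu : IsUnit e := by
      by_contra hu
      obtain ⟨I, hI, hmem⟩ := exists_max_ideal_of_mem_nonunits hu
      exact (Set.eq_univ_iff_forall.mp h ⟨I, hI.isPrime⟩ : e ∉ I) hmem
    exact IsIdempotentElem.iff_eq_one_of_isUnit hu |>.mp he

variable {k : ℕ} (χ : ∀ (B : Type u) [CommRing B] [Algebra R B], GLn k B →* Bˣ)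
  (hχ : ∀ (B C : Type u) [CommRing B] [Algebra R B] [CommRing C] [Algebra R C] (φ : B →ₐ[R] C) (g : GLn k B),
    χ C (Matrix.GeneralLinearGroup.map φ.toRingHom g) = Units.map (φ.toRingHom : B →* C) (χ B g))

include hχ

theorem val_map {B C : Type u} [CommRing B] [Algebra R B] [CommRing C] [Algebra R C] (φ : B →ₐ[R] C) (g : GLn k B)
    (g' : GLn k C) (h : ∀ a b, φ (g.1 a b) = g'.1 a b) : (χ C g' : C) = φ (χ B g) := by
  have : g' = Matrix.GeneralLinearGroup.map φ.toRingHom g := Units.ext (Matrix.ext fun a b => (h a b).symm)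
  rw [this, hχ B C φ g]
  rfl

theorem eq_one_tv (a b : Fin k) (hab : a ≠ b) (B : Type u) [CommRing B] [Algebra R B] (t : B) :
    χ B (tv a b hab t) = 1 := by
  classical
  have haev : ∀ (B : Type u) [CommRing B] [Algebra R B] (t : B),
      (χ B (tv a b hab t) : B) = Polynomial.aeval t (χ (Polynomial R) (tv a b hab Polynomial.X) : Polynomial R) := fun B _ _ t => by
    refine val_map χ hχ (Polynomial.aeval t) _ _ fun i j => ?_
    show Polynomial.aeval t (transvection a b Polynomial.X i j) = transvection a b t i j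
    simp only [transvection, Matrix.add_apply, map_add, Matrix.one_apply, Matrix.single_apply]
    split_ifs <;> simp
  let p : Polynomial R := (χ (Polynomial R) (tv a b hab Polynomial.X) : Polynomial R)
  -- conjugate by the torus
  let L := LaurentPolynomial R
  let c : Lˣ := (LaurentPolynomial.isUnit_T (R := R) 1).unit
  have hconj : ∀ (B : Type u) [CommRing B] [Algebra R B] (c : Bˣ) (t : B), tv a b hab ((c : B) * t) = dg a c * tv a b hab t * (dg a c)⁻¹ :=
    fun B _ _ c t => by
    refine Units.ext ?_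
    show transvection a b ((c : B) * t) = diagonal (Pi.mulSingle a (c : B)) * transvection a b t * diagonal (Pi.mulSingle a ((c⁻¹ : Bˣ) : B))
    refine Matrix.ext fun i j => ?_
    rw [mul_diagonal, diagonal_mul]
    simp only [transvection, Matrix.add_apply, Matrix.one_apply, Matrix.single_apply]
    by_cases hi : i = a <;> by_cases hj : j = a
    · subst hi hj; simp [Ne.symm hab]
    · subst hi; simp [hj, Ne.symm hj]
    · subst hj; simp [hi, Ne.symm hab, Ne.symm hi]
    · simp [hi, hj, Ne.symm hi]
  have h1 : Polynomial.aeval ((Polynomial.C (c : L)) * Polynomial.X) p = Polynomial.aeval (Polynomial.X : Polynomial L) p := by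
    rw [← haev, ← haev]
    have hc : IsUnit (Polynomial.C (c : L)) := c.isUnit.map Polynomial.C
    have := hconj (Polynomial L) hc.unit (Polynomial.X : Polynomial L)
    rw [IsUnit.unit_spec] at this
    rw [this, map_mul, map_mul, map_inv, mul_comm (χ _ (dg a hc.unit)), mul_inv_cancel_right]
  have hp : ∀ n, n ≠ 0 → p.coeff n = 0 := fun n hn => by
    have e1 : ∀ (d : L), (Polynomial.aeval (Polynomial.C d * Polynomial.X) p).coeff n = algebraMap R L (p.coeff n) * d ^ n := fun d => by
      have : Polynomial.aeval (Polynomial.C d * Polynomial.X) p = (p.map (algebraMap R L)).comp (Polynomial.C d * Polynomial.X) := by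
        rw [Polynomial.comp, Polynomial.aeval_def, Polynomial.eval₂_map]
        rfl
      rw [this, Polynomial.comp_C_mul_X_coeff, Polynomial.coeff_map]
    have h2 := congrArg (fun f : Polynomial L => f.coeff n) h1
    beta_reduce at h2
    rw [e1, ← one_mul (Polynomial.X : Polynomial L), ← Polynomial.C_1, e1, one_pow, mul_one] at h2
    have e2 : ∀ (r : R) (z : ℤ), (algebraMap R (LaurentPolynomial R) r * LaurentPolynomial.T z).coeff 0 = if z = 0 then r else 0 := fun r z => by
      show (LaurentPolynomial.C r * LaurentPolynomial.T z).coeff 0 = _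
      rw [← LaurentPolynomial.single_eq_C_mul_T]
      exact Finsupp.single_apply
    have hcn : (c : L) ^ n = LaurentPolynomial.T (n : ℤ) := by
      rw [show (c : L) = LaurentPolynomial.T 1 from IsUnit.unit_spec _, LaurentPolynomial.T_pow, mul_one]
    have h3 := congrArg (fun f : LaurentPolynomial R => f.coeff 0) h2
    beta_reduce at h3
    rw [hcn, e2, if_neg (by exact_mod_cast hn), ← mul_one (algebraMap R L (p.coeff n)), ← LaurentPolynomial.T_zero, e2, if_pos rfl] at h3
    exact h3.symm
  refine Units.ext ?_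
  have hp0 : p = Polynomial.C (p.coeff 0) := Polynomial.ext fun n => by
    rcases eq_or_ne n 0 with rfl | hn
    · rw [Polynomial.coeff_C_zero]
    · rw [hp n hn, Polynomial.coeff_C, if_neg hn]
  have h0 : p.coeff 0 = 1 := by
    have h := haev R 0
    rw [show tv a b hab (0 : R) = 1 from Units.ext (transvection_zero _ _), map_one, Units.val_one] at h
    rw [Polynomial.coeff_zero_eq_eval_zero]
    exact h.symm
  rw [haev, show (χ (Polynomial R) (tv a b hab Polynomial.X) : Polynomial R) = p from rfl, hp0, h0]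
  simp

theorem exists_zpow_dg [ConnectedSpace (PrimeSpectrum R)] (a : Fin k) :
    ∃ m : ℤ, ∀ (B : Type u) [CommRing B] [Algebra R B] (c : Bˣ), χ B (dg a c) = c ^ m := by
  classical
  haveI : Nontrivial R := PrimeSpectrum.nonempty_iff_nontrivial.mp inferInstance
  let L := AddMonoidAlgebra R ℤ
  let T : Lˣ := (AddMonoidAlgebra.of R ℤ).toHomUnits (Multiplicative.ofAdd 1)
  let q : L := (χ L (dg a T) : L)
  let ev : ∀ (B : Type u) [CommRing B] [Algebra R B], Bˣ → (L →ₐ[R] B) := fun B _ _ c =>
    AddMonoidAlgebra.lift R B ℤ ((Units.coeHom B).comp (zpowersHom Bˣ c))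
  have hev : ∀ (B : Type u) [CommRing B] [Algebra R B] (c : Bˣ) (n : ℤ) (r : R),
      ev B c (AddMonoidAlgebra.single n r) = r • ((c ^ n : Bˣ) : B) := fun B _ _ c n r => by
    show AddMonoidAlgebra.lift R B ℤ _ (AddMonoidAlgebra.single n r) = _
    rw [AddMonoidAlgebra.lift_single]
    rfl
  have hq : ∀ (B : Type u) [CommRing B] [Algebra R B] (c : Bˣ), (χ B (dg a c) : B) = ev B c q := fun B _ _ c => by
    refine val_map χ hχ (ev B c) _ _ fun i j => ?_
    show ev B c (diagonal (Pi.mulSingle a ((T : L))) i j) = diagonal (Pi.mulSingle a (c : B)) i j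
    rcases eq_or_ne i j with rfl | hij
    · rw [diagonal_apply_eq, diagonal_apply_eq]
      rcases eq_or_ne i a with rfl | hia
      · rw [Pi.mulSingle_eq_same, Pi.mulSingle_eq_same]
        show ev B c (AddMonoidAlgebra.single 1 1) = _
        rw [hev, zpow_one, one_smul]
      · rw [Pi.mulSingle_eq_of_ne hia, Pi.mulSingle_eq_of_ne hia, map_one]
    · rw [diagonal_apply_ne _ hij, diagonal_apply_ne _ hij, map_zero]
  have hsum : ∀ (B : Type u) [CommRing B] [Algebra R B] (c : Bˣ),
      ev B c q = ∑ i ∈ q.coeff.support, q.coeff i • ((c ^ i : Bˣ) : B) := fun B _ _ c => by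
    conv_lhs => rw [← AddMonoidAlgebra.sum_coeff_single q]
    rw [Finsupp.sum, map_sum]
    exact Finset.sum_congr rfl fun i _ => hev B c i _
  -- the universal pair
  let c : (AddMonoidAlgebra R (ℤ × ℤ))ˣ := (AddMonoidAlgebra.of R (ℤ × ℤ)).toHomUnits (Multiplicative.ofAdd (1, 0))
  let d : (AddMonoidAlgebra R (ℤ × ℤ))ˣ := (AddMonoidAlgebra.of R (ℤ × ℤ)).toHomUnits (Multiplicative.ofAdd (0, 1))
  have hpow : ∀ (p : ℤ × ℤ) (n : ℤ), ((((AddMonoidAlgebra.of R (ℤ × ℤ)).toHomUnits (Multiplicative.ofAdd p)) ^ n : (AddMonoidAlgebra R (ℤ × ℤ))ˣ) : (AddMonoidAlgebra R (ℤ × ℤ))) =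
      AddMonoidAlgebra.single (n • p) 1 := fun p n => by
    rw [← map_zpow, MonoidHom.coe_toHomUnits, ← ofAdd_zsmul]
    rfl
  have hc : ∀ i : ℤ, ((c ^ i : (AddMonoidAlgebra R (ℤ × ℤ))ˣ) : (AddMonoidAlgebra R (ℤ × ℤ))) = AddMonoidAlgebra.single (i, 0) 1 := fun i => by rw [hpow]; simp
  have hd : ∀ i : ℤ, ((d ^ i : (AddMonoidAlgebra R (ℤ × ℤ))ˣ) : (AddMonoidAlgebra R (ℤ × ℤ))) = AddMonoidAlgebra.single (0, i) 1 := fun i => by rw [hpow]; simp
  have hmul : ev (AddMonoidAlgebra R (ℤ × ℤ)) c q * ev (AddMonoidAlgebra R (ℤ × ℤ)) d q = ev (AddMonoidAlgebra R (ℤ × ℤ)) (c * d) q := by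
    rw [← hq, ← hq, ← hq, map_mul, map_mul, Units.val_mul]
  have key : ∀ i j : ℤ, q.coeff i * q.coeff j = if i = j then q.coeff i else 0 := by
    intro x y
    have h := congrArg (fun f : (AddMonoidAlgebra R (ℤ × ℤ)) => f.coeff (x, y)) hmul
    simp only [hsum, Finset.sum_mul_sum, mul_zpow, Units.val_mul, hc, hd, AddMonoidAlgebra.single_mul_single,
      AddMonoidAlgebra.smul_single, smul_eq_mul, mul_one, Prod.mk_add_mk, add_zero, zero_add, smul_mul_smul_comm,
      AddMonoidAlgebra.coeff_sum, Finsupp.finsetSum_apply, AddMonoidAlgebra.coeff_single, Finsupp.single_apply,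
      Prod.mk.injEq, ite_and, Finset.sum_ite_eq', Finsupp.mem_support_iff] at h
    by_cases hx : q.coeff x = 0
    · rw [hx, zero_mul]; split_ifs <;> rfl
    by_cases hy : q.coeff y = 0
    · rw [hy, mul_zero]; split_ifs with hxy <;> [exact (hxy ▸ hy).symm; rfl]
    simpa [hx, hy] using h
  have h1 : ∑ i ∈ q.coeff.support, q.coeff i = 1 := by
    have := hq R 1
    rw [map_one, map_one, hsum, Units.val_one] at this
    simpa using this.symm
  obtain ⟨m, hm⟩ : ∃ m, q.coeff m ≠ 0 := by
    by_contra h
    push_neg at h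
    simp [h] at h1
  have hm1 : q.coeff m = 1 := (idempotent_trivial ((key m m).trans (if_pos rfl))).resolve_left hm
  refine ⟨m, fun B _ _ c => Units.ext ?_⟩
  rw [hq, hsum, Finset.sum_eq_single m]
  · rw [hm1, one_smul]
  · intro j _ hj
    have := key m j
    rw [hm1, one_mul, if_neg hj.symm] at this
    rw [this, zero_smul]
  · intro h
    exact absurd (Finsupp.mem_support_iff.mpr hm) h

/-- Every character of `GLn k` over a connected base is a power of the determinant. -/
theorem exists_eq_det_zpow [ConnectedSpace (PrimeSpectrum R)] (hk : 0 < k) :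
    ∃ m : ℤ, ∀ (B : Type u) [CommRing B] [Algebra R B] (g : GLn k B), χ B g = Matrix.GeneralLinearGroup.det g ^ m := by
  classical
  let a : Fin k := ⟨0, hk⟩
  obtain ⟨m, hm⟩ := exists_zpow_dg χ hχ a
  have hloc : ∀ (B : Type u) [CommRing B] [Algebra R B] [IsLocalRing B] (g : GLn k B), χ B g = Matrix.GeneralLinearGroup.det g ^ m := by
    intro B _ _ _ g
    let g₁ : GLn k B := (dg a (Matrix.GeneralLinearGroup.det g))⁻¹ * g
    have hdet : g₁.1.det = 1 := by
      show ((Matrix.GeneralLinearGroup.det g₁ : Bˣ) : B) = 1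
      rw [map_mul, map_inv, det_dg, inv_mul_cancel, Units.val_one]
    have hker : ∀ M ∈ EtaleCommLib.elem k B, ∃ x : GLn k B, x.1 = M ∧ χ B x = 1 := by
      intro M hM
      induction hM using Submonoid.closure_induction with
      | mem M hM =>
        obtain ⟨⟨i, j, hij, c⟩, rfl⟩ := hM
        exact ⟨tv i j hij c, rfl, eq_one_tv χ hχ i j hij B c⟩
      | one => exact ⟨1, rfl, map_one _⟩
      | mul x y _ _ hx hy =>
        obtain ⟨x, rfl, hx⟩ := hx
        obtain ⟨y, rfl, hy⟩ := hy
        exact ⟨x * y, rfl, by rw [map_mul, hx, hy, one_mul]⟩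
    obtain ⟨x, hx, hx1⟩ := hker _ (EtaleCommLib.mem_elem g₁.1 hdet)
    obtain rfl : x = g₁ := Units.ext hx
    rw [map_mul, map_inv, inv_mul_eq_one] at hx1
    rw [← hx1, hm B]
  refine ⟨m, fun B _ _ g => Units.ext (sub_eq_zero.mp (eq_zero_of_localization _ fun J hJ => ?_))⟩
  haveI := hJ
  let C := Localization.AtPrime J
  let φ : B →ₐ[R] C := IsScalarTower.toAlgHom R B C
  show φ ((χ B g : B) - ((Matrix.GeneralLinearGroup.det g ^ m : Bˣ) : B)) = 0
  rw [map_sub, sub_eq_zero]
  have h1 := hχ B C φ g
  rw [hloc C] at h1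
  have h2 : Matrix.GeneralLinearGroup.det (Matrix.GeneralLinearGroup.map φ.toRingHom g) =
      Units.map (φ.toRingHom : B →* C) (Matrix.GeneralLinearGroup.det g) := Units.ext (φ.toRingHom.map_det g.1).symm
  rw [h2, ← map_zpow] at h1
  exact (congrArg Units.val h1).symm

end Groth.Agent.GLCharLib
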